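import Mathlib.CategoryTheory.Sites.Pullback
import Mathlib.CategoryTheory.ConnectedComponents
import Mathlib.CategoryTheory.Abelian.GrothendieckAxioms.Colim
import Mathlib.CategoryTheory.Functor.KanExtension.Adjunction
import Mathlib.CategoryTheory.Abelian.FunctorCategory
import Mathlib.CategoryTheory.Limits.Preserves.Shapes.Pullbacks
import Mathlib.CategoryTheory.Limits.Preserves.Shapes.Equalizers
import Mathlib.Algebra.Category.Grp.Abelian
import Mathlib.Algebra.Category.Grp.AB
import Mathlib.Algebra.Category.Grp.FilteredColimits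
import Mathlib.CategoryTheory.Sites.Abelian
import Mathlib.CategoryTheory.Adjunction.Additive
import Mathlib.Algebra.Homology.ShortComplex.ExactFunctor

/-!
# Left exactness of left Kan extensions of presheaves of abelian groups

If a functor preserves fibre products and equalizers, the left Kan extension of presheaves along it is exact:
the index categories of the colimits are disjoint unions of filtered categories.
-/

universe u

open CategoryTheory CategoryTheory.Limits Opposite

namespace Groth.Agent.SiteBase.Large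

variable {C D : Type (u + 1)} [Category.{u} C] [Category.{u} D]

section Filtered

variable {J : Type (u + 1)} [Category.{u} J]
  (hsq : ∀ ⦃i j k : J⦄ (_ : k ⟶ i) (_ : k ⟶ j), ∃ (l : J), Nonempty (i ⟶ l) ∧ Nonempty (j ⟶ l))
  (heq : ∀ ⦃i j : J⦄ (f g : i ⟶ j), ∃ (k : J) (h : j ⟶ k), f ≫ h = g ≫ h)

include hsq in
lemma exists_common_of_zigzag {i j : J} (h : Zigzag i j) : ∃ k, Nonempty (i ⟶ k) ∧ Nonempty (j ⟶ k) := by
  induction h with
  | refl => exact ⟨i, ⟨𝟙 i⟩, ⟨𝟙 i⟩⟩
  | @tail m n _ hmn ih =>
    obtain ⟨k, ⟨a⟩, ⟨b⟩⟩ := ih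
    rcases hmn with ⟨⟨f⟩⟩ | ⟨⟨f⟩⟩
    · obtain ⟨l, ⟨c⟩, ⟨d⟩⟩ := hsq b f
      exact ⟨l, ⟨a ≫ c⟩, ⟨d⟩⟩
    · exact ⟨k, ⟨a⟩, ⟨f ≫ b⟩⟩

include hsq heq in
lemma isFiltered_component (c : CategoryTheory.ConnectedComponents J) : IsFiltered c.Component where
  cocone_objs X Y := by
    obtain ⟨k, ⟨a⟩, ⟨b⟩⟩ := exists_common_of_zigzag hsq (Quotient.exact' (X.2.trans Y.2.symm))
    exact ⟨⟨k, (Quotient.sound' (Zigzag.of_inv a)).trans X.2⟩, ObjectProperty.homMk a, ObjectProperty.homMk b, trivial⟩
  cocone_maps X Y f g := by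
    obtain ⟨k, h, e⟩ := heq f.hom g.hom
    exact ⟨⟨k, (Quotient.sound' (Zigzag.of_inv h)).trans Y.2⟩, ObjectProperty.homMk h, ObjectProperty.hom_ext _ e⟩

variable (F : J ⥤ AddCommGrpCat.{u + 1})

/-- The inclusion of the colimit over a component. -/
noncomputable def compIncl (c : CategoryTheory.ConnectedComponents J) : colimit (c.ι ⋙ F) ⟶ colimit F :=
  colimit.pre F c.ι

variable {F} {T : AddCommGrpCat.{u + 1}} (s : ∀ c : CategoryTheory.ConnectedComponents J, colimit (c.ι ⋙ F) ⟶ T)

lemma compDesc_eq (j : J) {c : CategoryTheory.ConnectedComponents J} (h : CategoryTheory.ConnectedComponents.mk j = c) :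
    colimit.ι ((CategoryTheory.ConnectedComponents.mk j).ι ⋙ F) ⟨j, rfl⟩ ≫ s (CategoryTheory.ConnectedComponents.mk j) =
      colimit.ι (c.ι ⋙ F) ⟨j, h⟩ ≫ s c := by
  subst h
  rfl

/-- The cocone assembled from cocones on the components. -/
noncomputable def compCocone : Cocone F where
  pt := T
  ι :=
    { app := fun j => colimit.ι ((CategoryTheory.ConnectedComponents.mk j).ι ⋙ F) ⟨j, rfl⟩ ≫ s (CategoryTheory.ConnectedComponents.mk j)
      naturality := fun i j f => by
        rw [compDesc_eq s i (Quotient.sound' (Zigzag.of_hom f) : CategoryTheory.ConnectedComponents.mk i = CategoryTheory.ConnectedComponents.mk j),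
          ← Category.assoc]
        refine Eq.trans ?_ (Category.comp_id _).symm
        exact congrArg (· ≫ s (CategoryTheory.ConnectedComponents.mk j)) (colimit.w ((CategoryTheory.ConnectedComponents.mk j).ι ⋙ F)
          (ObjectProperty.homMk f : (⟨i, _⟩ : (CategoryTheory.ConnectedComponents.mk j).Component) ⟶ ⟨j, rfl⟩)) }

variable (F) in
/-- The colimit is the sum of the colimits over the components. -/
noncomputable def compIsColimit : IsColimit (Cofan.mk (colimit F) (compIncl F)) :=
  Cofan.IsColimit.mk _ (fun s => colimit.desc F (compCocone s.inj))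
    (fun s c => colimit.hom_ext fun j => by
      show colimit.ι _ j ≫ colimit.pre F c.ι ≫ colimit.desc F (compCocone s.inj) = colimit.ι _ j ≫ s.inj c
      rw [colimit.ι_pre_assoc, colimit.ι_desc]
      exact compDesc_eq s.inj j.1 j.2)
    (fun s m hm => colimit.hom_ext (F := F) fun j => by
      refine Eq.trans ?_ (colimit.ι_desc (compCocone s.inj) j).symm
      refine Eq.trans ?_ (congrArg (colimit.ι ((CategoryTheory.ConnectedComponents.mk j).ι ⋙ F) ⟨j, rfl⟩ ≫ ·) (hm (CategoryTheory.ConnectedComponents.mk j)))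
      exact (colimit.ι_pre_assoc F (CategoryTheory.ConnectedComponents.mk j).ι ⟨j, rfl⟩ m).symm)

include hsq heq in
theorem mono_colimMap {G : J ⥤ AddCommGrpCat.{u + 1}} (φ : F ⟶ G) [∀ j, Mono (φ.app j)] : Mono (colimMap φ) := by
  have : ∀ c : CategoryTheory.ConnectedComponents J, Mono (colimMap (Functor.whiskerLeft c.ι φ)) := fun c => by
    have := isFiltered_component hsq heq c
    haveI : PreservesFilteredColimitsOfSize.{u, u + 1} (forget AddCommGrpCat.{u + 1}) :=
      preservesFilteredColimitsOfSize_shrink.{u + 1, u + 1, u, u + 1} _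
    haveI : PreservesColimitsOfShape c.Component (forget AddCommGrpCat.{u + 1}) := PreservesFilteredColimitsOfSize.preserves_filtered_colimits _
    refine (AddCommGrpCat.mono_iff_injective _).2 ((injective_iff_map_eq_zero _).2 fun x hx => ?_)
    obtain ⟨j, a, rfl⟩ := Concrete.colimit_exists_rep (c.ι ⋙ F) x
    rw [← ConcreteCategory.comp_apply, ι_colimMap, ConcreteCategory.comp_apply] at hx
    obtain ⟨k, f, g, hfg⟩ := Concrete.colimit_exists_of_rep_eq (c.ι ⋙ G) _ (0 : ToType ((c.ι ⋙ G).obj j))
      (hx.trans (map_zero _).symm)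
    rw [map_zero, ← ConcreteCategory.comp_apply, ← NatTrans.naturality, ConcreteCategory.comp_apply] at hfg
    have h0 : (c.ι ⋙ F).map f a = 0 :=
      (AddCommGrpCat.mono_iff_injective ((Functor.whiskerLeft c.ι φ).app k)).1
        (inferInstanceAs (Mono (φ.app _))) (hfg.trans (map_zero _).symm)
    rw [← colimit.w (c.ι ⋙ F) f, ConcreteCategory.comp_apply, h0, map_zero]
  let m : Discrete.functor (fun c : CategoryTheory.ConnectedComponents J => colimit (c.ι ⋙ F)) ⟶
      Discrete.functor (fun c : CategoryTheory.ConnectedComponents J => colimit (c.ι ⋙ G)) :=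
    Discrete.natTrans fun c => colimMap (Functor.whiskerLeft c.as.ι φ)
  have : ∀ c, Mono (m.app c) := fun c => this c.as
  have : Mono m := NatTrans.mono_of_mono_app _
  have : Mono (colimMap m) := inferInstanceAs (Mono (colim.map m))
  let eF := (compIsColimit F).coconePointUniqueUpToIso (colimit.isColimit _)
  let eG := (compIsColimit G).coconePointUniqueUpToIso (colimit.isColimit _)
  have h : colimMap φ = eF.hom ≫ colimMap m ≫ eG.inv := by
    refine (compIsColimit F).hom_ext fun c => ?_
    rw [IsColimit.comp_coconePointUniqueUpToIso_hom_assoc]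
    show compIncl F c.as ≫ colimMap φ = colimit.ι _ c ≫ colimMap m ≫ eG.inv
    rw [ι_colimMap_assoc]
    refine Eq.trans ?_ (congrArg (m.app c ≫ ·)
      ((compIsColimit G).comp_coconePointUniqueUpToIso_inv (colimit.isColimit _) c)).symm
    show compIncl F c.as ≫ colimMap φ = colimMap (Functor.whiskerLeft c.as.ι φ) ≫ compIncl G c.as
    refine colimit.hom_ext fun j => ?_
    unfold compIncl
    rw [colimit.ι_pre_assoc, ι_colimMap, ι_colimMap_assoc, colimit.ι_pre]
    rfl
  rw [h]
  infer_instance

end Filtered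

variable (u : C ⥤ D) [HasPullbacks C] [HasEqualizers C]
  [PreservesLimitsOfShape WalkingCospan u] [PreservesLimitsOfShape WalkingParallelPair u]

omit [HasEqualizers C] [PreservesLimitsOfShape WalkingParallelPair u] in
lemma costructured_sq (X : Dᵒᵖ) ⦃i j k : CostructuredArrow u.op X⦄ (f : k ⟶ i) (g : k ⟶ j) :
    ∃ l, Nonempty (i ⟶ l) ∧ Nonempty (j ⟶ l) := by
  have wf : i.hom.unop ≫ u.map f.left.unop = k.hom.unop := congrArg Quiver.Hom.unop (CostructuredArrow.w f)
  have wg : j.hom.unop ≫ u.map g.left.unop = k.hom.unop := congrArg Quiver.Hom.unop (CostructuredArrow.w g)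
  let sq := isLimitOfHasPullbackOfPreservesLimit u f.left.unop g.left.unop
  let l : X.unop ⟶ u.obj (pullback f.left.unop g.left.unop) :=
    PullbackCone.IsLimit.lift sq i.hom.unop j.hom.unop (wf.trans wg.symm)
  refine ⟨CostructuredArrow.mk (Y := op (pullback f.left.unop g.left.unop)) l.op,
    ⟨CostructuredArrow.homMk (pullback.fst f.left.unop g.left.unop).op (Quiver.Hom.unop_inj ?_)⟩,
    ⟨CostructuredArrow.homMk (pullback.snd f.left.unop g.left.unop).op (Quiver.Hom.unop_inj ?_)⟩⟩
  · exact PullbackCone.IsLimit.lift_fst sq _ _ _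
  · exact PullbackCone.IsLimit.lift_snd sq _ _ _

omit [HasPullbacks C] [PreservesLimitsOfShape WalkingCospan u] in
lemma costructured_eq (X : Dᵒᵖ) ⦃i j : CostructuredArrow u.op X⦄ (f g : i ⟶ j) :
    ∃ k, ∃ h : j ⟶ k, f ≫ h = g ≫ h := by
  have wf : j.hom.unop ≫ u.map f.left.unop = i.hom.unop := congrArg Quiver.Hom.unop (CostructuredArrow.w f)
  have wg : j.hom.unop ≫ u.map g.left.unop = i.hom.unop := congrArg Quiver.Hom.unop (CostructuredArrow.w g)
  let sq := isLimitOfHasEqualizerOfPreservesLimit u f.left.unop g.left.unop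
  obtain ⟨l, hl⟩ := Fork.IsLimit.lift' sq j.hom.unop (wf.trans wg.symm)
  refine ⟨CostructuredArrow.mk (Y := op (equalizer f.left.unop g.left.unop)) l.op,
    CostructuredArrow.homMk (equalizer.ι f.left.unop g.left.unop).op (Quiver.Hom.unop_inj hl),
    CostructuredArrow.hom_ext _ _ (Quiver.Hom.unop_inj ?_)⟩
  exact equalizer.condition _ _

theorem mono_lan_map {F G : Cᵒᵖ ⥤ AddCommGrpCat.{u + 1}} (φ : F ⟶ G) [Mono φ] : Mono (u.op.lan.map φ) := by
  have : ∀ X, Mono ((u.op.lan.map φ).app X) := fun X => by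
    let ψ := Functor.whiskerLeft (CostructuredArrow.proj u.op X) φ
    have : ∀ j, Mono (ψ.app j) := fun j => inferInstanceAs (Mono (φ.app _))
    have := mono_colimMap (costructured_sq u X) (costructured_eq u X) ψ
    let eF := u.op.leftKanExtensionObjIsoColimit F X
    let eG := u.op.leftKanExtensionObjIsoColimit G X
    let A : (u.op.leftKanExtension F).obj X ⟶ (u.op.leftKanExtension G).obj X := (u.op.lan.map φ).app X
    have h : eF.inv ≫ A = colimMap ψ ≫ eG.inv := colimit.hom_ext fun j => by
      rw [Functor.ι_leftKanExtensionObjIsoColimit_inv_assoc, ι_colimMap_assoc,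
        Functor.ι_leftKanExtensionObjIsoColimit_inv]
      refine (congrArg ((u.op.leftKanExtensionUnit F).app j.left ≫ ·)
        ((u.op.lan.map φ).naturality j.hom)).trans ?_
      exact ((Category.assoc _ _ _).symm.trans (congrArg (· ≫ (u.op.leftKanExtension G).map j.hom)
        (NatTrans.congr_app (u.op.lanUnit.naturality φ) j.left).symm)).trans (Category.assoc _ _ _)
    have : Mono A := by
      rw [show A = eF.hom ≫ colimMap ψ ≫ eG.inv from by rw [← h, Iso.hom_inv_id_assoc]]
      infer_instance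
    exact this
  exact NatTrans.mono_of_mono_app _

theorem preservesFiniteLimits_lan : PreservesFiniteLimits (u.op.lan : (Cᵒᵖ ⥤ AddCommGrpCat.{u + 1}) ⥤ _) := by
  let adj := u.op.lanAdjunction AddCommGrpCat.{u + 1}
  have : (u.op.lan : (Cᵒᵖ ⥤ AddCommGrpCat.{u + 1}) ⥤ _).Additive := adj.left_adjoint_additive
  have : PreservesColimitsOfSize.{0, 0} (u.op.lan : (Cᵒᵖ ⥤ AddCommGrpCat.{u + 1}) ⥤ _) :=
    adj.leftAdjoint_preservesColimits
  rw [Functor.preservesFiniteLimits_iff_forall_exact_map_and_mono]
  intro S hS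
  have := hS.mono_f
  have := hS.epi_g
  exact ⟨hS.exact.map_of_epi_of_preservesCokernel u.op.lan ‹_› inferInstance, mono_lan_map u S.f⟩

theorem preservesFiniteLimits_sheafPullback (J : GrothendieckTopology C) (K : GrothendieckTopology D)
    [u.IsContinuous J K] : PreservesFiniteLimits (u.sheafPullback AddCommGrpCat.{u + 1} J K) := by
  have := preservesFiniteLimits_lan u
  have : PreservesFiniteLimits (u.op.lan ⋙ presheafToSheaf K AddCommGrpCat.{u + 1}) := comp_preservesFiniteLimits _ _
  have : PreservesFiniteLimits (Functor.sheafPullbackConstruction.sheafPullback u AddCommGrpCat.{u + 1} J K) :=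
    comp_preservesFiniteLimits _ _
  exact preservesFiniteLimits_of_natIso (Functor.sheafPullbackConstruction.sheafPullbackIso u AddCommGrpCat.{u + 1} J K).symm

end Groth.Agent.SiteBase.Large
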